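import Cfsg.Agent.Lib.Computation.StabChain
import Mathlib.GroupTheory.Perm.Basic
import Mathlib.Algebra.Group.Action.End
import Mathlib.Data.Fintype.EquivFin
import Mathlib.Data.Nat.Bitwise

/-!
# Permutations of `Fin n` packed in natural numbers

A permutation `σ` is coded by `∑ σ x * 2 ^ (w * x)`; all operations use only the `Nat`
operations that the kernel evaluates with GMP. `permRep n w` is the representation for
`StabChain`; a certificate literal for it is printed by `scripts/stabchain.py`.
-/

namespace Cfsg.Agent.Lib.Computation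

/-- Call by value for the kernel: evaluates `a` to a literal before applying `k`. -/
def forceNat {α : Sort*} (a : Nat) (k : Nat → α) : α :=
  Nat.rec (k 0) (fun m _ => k (m + 1)) a

theorem forceNat_eq {α : Sort*} (a : Nat) (k : Nat → α) : forceNat a k = k a := by
  cases a <;> rfl

/-- The entry at position `x` of a packed vector. -/
def getW (w c x : Nat) : Nat := Nat.mod (Nat.shiftRight c (Nat.mul w x)) (Nat.pow 2 w)

/-- Packing of `f 0, ..., f (k - 1)`; written with `Nat.rec` and raw operations for speed. -/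
def packW (w : Nat) (f : Nat → Nat) (k : Nat) : Nat :=
  Nat.rec 0 (fun i acc => Nat.add (Nat.shiftLeft (f i) (Nat.mul w i)) acc) k

theorem getW_eq (w c x : Nat) : getW w c x = c / 2 ^ (w * x) % 2 ^ w :=
  congrArg (· % 2 ^ w) (Nat.shiftRight_eq_div_pow c (w * x))

theorem packW_succ (w : Nat) (f : Nat → Nat) (k : Nat) :
    packW w f (k + 1) = f k * 2 ^ (w * k) + packW w f k :=
  congrArg (· + packW w f k) (Nat.shiftLeft_eq (f k) (w * k))

theorem packW_lt {w : Nat} {f : Nat → Nat} : ∀ {k : Nat},
    (∀ x, x < k → f x < 2 ^ w) → packW w f k < 2 ^ (w * k) := by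
  intro k
  induction k with
  | zero => intro _; exact Nat.two_pow_pos _
  | succ k ih =>
    intro hf
    have h1 := ih fun x hx => hf x (by omega)
    have h2 : (f k + 1) * 2 ^ (w * k) ≤ 2 ^ w * 2 ^ (w * k) :=
      Nat.mul_le_mul_right _ (hf k (by omega))
    rw [← pow_add, Nat.add_mul, Nat.one_mul] at h2
    rw [packW_succ, Nat.mul_succ, Nat.add_comm (w * k)]
    omega

theorem getW_packW {w : Nat} {f : Nat → Nat} : ∀ {k : Nat},
    (∀ x, x < k → f x < 2 ^ w) → ∀ {x}, x < k → getW w (packW w f k) x = f x := by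
  intro k
  induction k with
  | zero => intro _ x hx; omega
  | succ k ih =>
    intro hf x hx
    have hlt := packW_lt (f := f) (w := w) (k := k) fun y hy => hf y (by omega)
    rw [getW_eq, packW_succ]
    rcases Nat.lt_succ_iff_lt_or_eq.1 hx with hx | rfl
    · have := ih (fun y hy => hf y (by omega)) hx
      rw [getW_eq] at this
      obtain ⟨d, hd⟩ : ∃ d, k = x + 1 + d := ⟨k - (x + 1), by omega⟩
      have hsplit : f k * 2 ^ (w * k) = 2 ^ (w * x) * (2 ^ w * (f k * 2 ^ (w * d))) := by
        subst hd
        simp only [Nat.mul_add, Nat.mul_one, pow_add]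
        ac_rfl
      rw [hsplit, Nat.mul_add_div (Nat.two_pow_pos _), Nat.mul_add_mod, this]
    · rw [Nat.mul_comm (f x), Nat.mul_add_div (Nat.two_pow_pos _), Nat.div_eq_of_lt hlt,
        Nat.add_zero, Nat.mod_eq_of_lt (hf x (by omega))]

/-- Bit mask of the entries at positions `< k`. -/
def maskW (w c k : Nat) : Nat :=
  Nat.rec 0 (fun i acc => Nat.lor (Nat.shiftLeft 1 (getW w c i)) acc) k

theorem maskW_succ (w c k : Nat) : maskW w c (k + 1) = 2 ^ getW w c k ||| maskW w c k :=
  congrArg (· ||| maskW w c k) (Nat.one_shiftLeft (getW w c k))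

theorem testBit_maskW {w c j : Nat} : ∀ {k : Nat},
    (maskW w c k).testBit j = true ↔ ∃ x < k, getW w c x = j := by
  intro k
  induction k with
  | zero => simp [maskW]
  | succ k ih =>
    simp only [maskW_succ, Nat.testBit_or, Bool.or_eq_true, ih, Nat.testBit_two_pow,
      decide_eq_true_eq]
    constructor
    · rintro (h | ⟨x, hx, he⟩)
      · exact ⟨k, by omega, h⟩
      · exact ⟨x, by omega, he⟩
    · rintro ⟨x, hx, he⟩
      rcases Nat.lt_succ_iff_lt_or_eq.1 hx with hx | rfl
      · exact Or.inr ⟨x, hx, he⟩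
      · exact Or.inl he

/-- All entries at positions `< k` are `< n`. -/
def boundedW (w c n k : Nat) : Bool :=
  Nat.rec true (fun i acc => Bool.rec (motive := fun _ => Bool) false acc (Nat.blt (getW w c i) n)) k

theorem boundedW_iff {w c n : Nat} : ∀ {k : Nat},
    boundedW w c n k = true ↔ ∀ x < k, getW w c x < n := by
  intro k
  induction k with
  | zero => simp [boundedW]
  | succ k ih =>
    have hs : boundedW w c n (k + 1) = (Nat.blt (getW w c k) n && boundedW w c n k) := by
      change Bool.rec (motive := fun _ => Bool) false (boundedW w c n k) (Nat.blt (getW w c k) n) = _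
      cases Nat.blt (getW w c k) n <;> rfl
    simp only [hs, Bool.and_eq_true, ih, Nat.blt, Nat.ble_eq]
    constructor
    · rintro ⟨h1, h2⟩ x hx
      rcases Nat.lt_succ_iff_lt_or_eq.1 hx with hx | rfl
      · exact h2 x hx
      · exact h1
    · exact fun h => ⟨h k (by omega), fun x hx => h x (by omega)⟩

/-- `c` codes a permutation of `Fin n`. -/
def okPerm (n w c : Nat) : Bool :=
  forceNat c fun c => boundedW w c n n && Nat.beq (maskW w c n) (2 ^ n - 1)

theorem okPerm_lt {n w c : Nat} (h : okPerm n w c = true) {x : Nat} (hx : x < n) :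
    getW w c x < n := by
  simp only [okPerm, forceNat_eq, Bool.and_eq_true] at h
  exact boundedW_iff.1 h.1 x hx

/-- The map coded by a valid code. -/
def permFun {n w c : Nat} (h : okPerm n w c = true) (i : Fin n) : Fin n :=
  ⟨getW w c i, okPerm_lt h i.2⟩

theorem permFun_bijective {n w c : Nat} (h : okPerm n w c = true) :
    Function.Bijective (permFun h) := by
  refine Finite.surjective_iff_bijective.1 ?_
  intro j
  have hb : (maskW w c n).testBit j = true := by
    simp only [okPerm, forceNat_eq, Bool.and_eq_true] at h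
    rw [Nat.eq_of_beq_eq_true h.2, Nat.testBit_two_pow_sub_one]
    simp
  obtain ⟨x, hx, he⟩ := testBit_maskW.1 hb
  exact ⟨⟨x, hx⟩, Fin.ext he⟩

/-- The permutation coded by `c` (the identity for invalid codes). -/
noncomputable def decodeP (n w c : Nat) : Equiv.Perm (Fin n) :=
  if h : okPerm n w c = true then Equiv.ofBijective _ (permFun_bijective h) else 1

theorem decodeP_apply {n w c : Nat} (h : okPerm n w c = true) (i : Fin n) :
    (decodeP n w c i : Nat) = getW w c i := by
  simp [decodeP, h, permFun]

/-- The code of a permutation. -/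
def encodeP (n w : Nat) (σ : Equiv.Perm (Fin n)) : Nat :=
  packW w (fun x => if h : x < n then (σ ⟨x, h⟩ : Nat) else 0) n

theorem getW_encodeP {n w : Nat} (hw : n ≤ 2 ^ w) (σ : Equiv.Perm (Fin n)) (i : Fin n) :
    getW w (encodeP n w σ) i = σ i := by
  rw [encodeP, getW_packW ?_ i.2]
  · simp
  · intro x hx
    simp only [hx, dite_true]
    exact lt_of_lt_of_le (σ ⟨x, hx⟩).2 hw

theorem okPerm_of_getW {n w c : Nat} (σ : Equiv.Perm (Fin n))
    (h : ∀ i : Fin n, getW w c i = σ i) : okPerm n w c = true := by
  have hb : boundedW w c n n = true := boundedW_iff.2 fun x hx => by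
    rw [show getW w c x = _ from h ⟨x, hx⟩]
    exact (σ ⟨x, hx⟩).2
  simp only [okPerm, forceNat_eq, hb, Bool.true_and]
  have : maskW w c n = 2 ^ n - 1 := by
    refine Nat.eq_of_testBit_eq fun j => ?_
    rw [Nat.testBit_two_pow_sub_one, Bool.eq_iff_iff, testBit_maskW, decide_eq_true_iff]
    constructor
    · rintro ⟨x, hx, rfl⟩
      rw [show getW w c x = _ from h ⟨x, hx⟩]
      exact (σ ⟨x, hx⟩).2
    · intro hj
      refine ⟨σ.symm ⟨j, hj⟩, (σ.symm ⟨j, hj⟩).2, ?_⟩
      rw [h]; simp
  rw [this]
  exact Nat.beq_refl _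

theorem decodeP_encodeP {n w : Nat} (hw : n ≤ 2 ^ w) (σ : Equiv.Perm (Fin n)) :
    okPerm n w (encodeP n w σ) = true ∧ decodeP n w (encodeP n w σ) = σ := by
  have hok := okPerm_of_getW σ (getW_encodeP hw σ)
  exact ⟨hok, Equiv.ext fun i => Fin.ext (by rw [decodeP_apply hok, getW_encodeP hw])⟩

/-- Composition of codes: `mulP a b` is `a ∘ b`. -/
def mulP (n w a b : Nat) : Nat :=
  forceNat a fun a => forceNat b fun b => packW w (fun x => getW w a (getW w b x)) n

theorem getW_mulP {n w a b : Nat} (ha : okPerm n w a = true) (hb : okPerm n w b = true)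
    (i : Fin n) : getW w (mulP n w a b) i = (decodeP n w a * decodeP n w b) i := by
  simp only [mulP, forceNat_eq]
  rw [getW_packW ?_ i.2]
  · simp [decodeP_apply, ha, hb]
  · intro x _
    exact getW_eq w a _ ▸ Nat.mod_lt _ (Nat.two_pow_pos w)

theorem okPerm_mulP {n w a b : Nat} (ha : okPerm n w a = true) (hb : okPerm n w b = true) :
    okPerm n w (mulP n w a b) = true :=
  okPerm_of_getW _ (getW_mulP ha hb)

theorem decodeP_mulP {n w a b : Nat} (ha : okPerm n w a = true) (hb : okPerm n w b = true) :
    decodeP n w (mulP n w a b) = decodeP n w a * decodeP n w b :=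
  Equiv.ext fun i => Fin.ext (by rw [decodeP_apply (okPerm_mulP ha hb), getW_mulP ha hb])

/-- The packed representation of `Equiv.Perm (Fin n)`; needs `n ≤ 2 ^ w`. -/
noncomputable abbrev permRep (n w : Nat) [NeZero n] (hw : n ≤ 2 ^ w) :
    Rep (Equiv.Perm (Fin n)) (Fin n) where
  C := Nat
  mul := mulP n w
  beq := Nat.beq
  one := packW w (fun x => x) n
  ok := okPerm n w
  act := fun c x => forceNat c fun c => getW w c x
  force := fun c k => forceNat c k
  force_eq := fun c k => forceNat_eq c k
  ptOk := fun x => Nat.blt x n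
  val := decodeP n w
  pt := fun x => Fin.ofNat n x
  ok_mul := okPerm_mulP
  val_mul := decodeP_mulP
  beq_sound := fun _ _ h => by rw [Nat.eq_of_beq_eq_true h]
  ok_one := okPerm_of_getW 1 fun i => by
    rw [getW_packW ?_ i.2]
    · simp
    · intro x hx; omega
  val_one := by
    have hget : ∀ i : Fin n, getW w (packW w (fun x => x) n) i = (1 : Equiv.Perm (Fin n)) i := by
      intro i
      rw [getW_packW ?_ i.2]
      · simp
      · intro x hx; omega
    exact Equiv.ext fun i => Fin.ext (by rw [decodeP_apply (okPerm_of_getW 1 hget), hget])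
  ptOk_act := fun {a x} ha hx => by
    simp only [forceNat_eq, Nat.blt, Nat.ble_eq] at hx ⊢
    exact okPerm_lt ha hx
  pt_act := fun {a x} ha hx => by
    simp only [Nat.blt, Nat.ble_eq] at hx
    have hy := okPerm_lt ha hx
    refine Fin.ext ?_
    rw [Equiv.Perm.smul_def, decodeP_apply ha]
    simp [forceNat_eq, Nat.mod_eq_of_lt hx, Nat.mod_eq_of_lt hy]
  pt_inj := fun {x y} hx hy h => by
    simp only [Nat.blt, Nat.ble_eq] at hx hy
    simpa [Fin.ext_iff, Nat.mod_eq_of_lt hx, Nat.mod_eq_of_lt hy] using h

variable {n w : Nat} [NeZero n] {hw : n ≤ 2 ^ w}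

/-- The order of a group generated by explicit permutations, from a certificate. -/
theorem card_closure_perms (σs : List (Equiv.Perm (Fin n))) (gens : List Nat)
    (hg : σs.map (encodeP n w) = gens) {steps : List (Step Nat)} {c : List (Level Nat)}
    (h : (permRep n w hw).checkClosure gens steps c = true) :
    Nat.card (Subgroup.closure {σ | σ ∈ σs}) = (permRep n w hw).order c := by
  rw [← (permRep n w hw).card_closure h]
  have : (permRep n w hw).val '' {s | s ∈ gens} = {σ | σ ∈ σs} := by
    subst hg
    ext σ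
    constructor
    · rintro ⟨s, hs, rfl⟩
      obtain ⟨τ, hτ, rfl⟩ := List.mem_map.1 hs
      simpa [permRep, (decodeP_encodeP hw τ).2] using hτ
    · intro hσ
      exact ⟨_, List.mem_map.2 ⟨σ, hσ, rfl⟩, (decodeP_encodeP hw σ).2⟩
  rw [this]

/-- If the first orbit has all `n` points the group is transitive. -/
theorem exists_apply_base_eq {L : Level Nat} {rest : List (Level Nat)}
    (hc : (permRep n w hw).checkChain (L :: rest) = true) (hn : L.orb.toList.length = n)
    (i : Fin n) : ∃ g ∈ (permRep n w hw).grp (L :: rest), g (Fin.ofNat n L.base) = i := by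
  let R := permRep n w hw
  let f : Fin L.orb.toList.length → Fin n := fun j => R.pt (L.orb.toList.get j).point
  have hf : Function.Injective f := by
    intro j k h
    have := R.entry_eq hc (List.get_mem _ j) (List.get_mem _ k) h
    exact List.nodup_iff_injective_get.1 ((R.levelFacts hc).nodup.of_map _) this
  have hbij : Function.Bijective f :=
    (Fintype.bijective_iff_injective_and_card f).2 ⟨hf, by simp [hn]⟩
  obtain ⟨j, hj⟩ := hbij.2 i
  exact ⟨_, R.fwd_mem_grp hc (List.get_mem _ j), (R.fwd_smul_base hc (List.get_mem _ j)).trans hj⟩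

end Cfsg.Agent.Lib.Computation
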