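import Mathlib.GroupTheory.GroupAction.Defs
import Mathlib.GroupTheory.GroupAction.Basic
import Mathlib.Algebra.Group.Subgroup.Finite
import Mathlib.SetTheory.Cardinal.Finite
import Mathlib.Data.List.Nodup
import Mathlib.Data.Set.Card

/-!
# Kernel-checkable stabiliser-chain certificates

A *representation* `Rep G X` is a way of computing in a group `G` acting on `X` with codes
of a type `C` that the kernel evaluates quickly: multiplication, a sufficient test for
equality and the action on points, which are coded by natural numbers.

A certificate is a list of levels (a stabiliser chain). Each level has a base point, generators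
and the orbit of the base point with transversal elements, their inverses and a Schreier tree.
`checkChain` is a Boolean function to be evaluated with `decide +kernel`; if it returns `true`
then the group generated by the first level's generators is finite of order `order c`
(`card_grp`), its base-point stabiliser is generated by the next level
(`mem_grp_tail_iff`) and the orbit of the base point is the stored one (`smul_base_mem`).
`checkClosure` moreover certifies that a given list of generators generates this group
(`closure_eq_grp`, `card_closure`); the strong generators are given by a straight line program.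

Certificates are produced by `scripts/stabchain.py`.
-/

namespace Cfsg.Agent.Lib.Computation

universe u v

/-- Computable codes for elements of `G` and for points of `X`. -/
structure Rep (G : Type u) [Group G] (X : Type v) [MulAction G X] where
  /-- the codes of group elements -/
  C : Type
  /-- multiplication of codes -/
  mul : C → C → C
  /-- a sufficient test for two codes to have the same value -/
  beq : C → C → Bool
  /-- a code of the identity -/
  one : C
  /-- the valid codes -/
  ok : C → Bool
  /-- the action on point codes -/
  act : C → Nat → Nat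
  /-- the valid point codes -/
  ptOk : Nat → Bool
  /-- the value of a code -/
  val : C → G
  /-- the value of a point code -/
  pt : Nat → X
  ok_mul : ∀ {a b}, ok a = true → ok b = true → ok (mul a b) = true
  val_mul : ∀ {a b}, ok a = true → ok b = true → val (mul a b) = val a * val b
  beq_sound : ∀ {a b}, ok a = true → ok b = true → beq a b = true → val a = val b
  ok_one : ok one = true
  val_one : val one = 1
  ptOk_act : ∀ {a x}, ok a = true → ptOk x = true → ptOk (act a x) = true
  pt_act : ∀ {a x}, ok a = true → ptOk x = true → val a • pt x = pt (act a x)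
  /-- call by value: evaluates the code before applying the continuation -/
  force : C → (C → Bool) → Bool
  force_eq : ∀ c k, force c k = k c
  pt_inj : ∀ {x y}, ptOk x = true → ptOk y = true → pt x = pt y → x = y

/-- An orbit element: the point, a group element moving the base point to it, the inverse of
that element, the depth in the Schreier tree, the parent point and the index of the generator. -/
structure Entry (C : Type) where
  point : Nat
  fwd : C
  bwd : C
  depth : Nat
  par : Nat
  gen : Nat

/-- An orbit as a search tree on the points. -/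
inductive Orbit (C : Type) where
  | leaf
  | node (l : Orbit C) (e : Entry C) (r : Orbit C)

/-- One level of a stabiliser chain. -/
structure Level (C : Type) where
  base : Nat
  gens : List C
  orb : Orbit C

/-- A step of a straight line program: a product of two earlier elements, or a given code
that is checked to be the inverse of an earlier element. -/
inductive Step (C : Type) where
  | mul (i j : Nat)
  | inv (i : Nat) (c : C)

namespace Orbit

variable {C : Type}

def toList : Orbit C → List (Entry C)
  | leaf => []
  | node l e r => l.toList ++ e :: r.toList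

def find (x : Nat) : Orbit C → Option (Entry C)
  | leaf => none
  | node l e r => bif Nat.beq x e.point then some e
      else (bif Nat.blt x e.point then l.find x else r.find x)

/-- `find`, evaluating the point first. -/
def lookup (x : Nat) (t : Orbit C) : Option (Entry C) :=
  Nat.rec (t.find 0) (fun m _ => t.find (m + 1)) x

theorem lookup_eq (x : Nat) (t : Orbit C) : t.lookup x = t.find x := by
  cases x <;> rfl

theorem find_some {x : Nat} {t : Orbit C} {e : Entry C} (h : t.find x = some e) :
    e ∈ t.toList ∧ e.point = x := by
  induction t with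
  | leaf => simp [find] at h
  | node l a r ihl ihr =>
    cases hb : Nat.beq x a.point with
    | true =>
      simp only [find, hb, cond_true, Option.some.injEq] at h
      subst h
      exact ⟨by simp [toList], (Nat.eq_of_beq_eq_true hb).symm⟩
    | false =>
      cases hl : Nat.blt x a.point with
      | true =>
        simp only [find, hb, hl, cond_false, cond_true] at h
        exact ⟨by simp [toList, (ihl h).1], (ihl h).2⟩
      | false =>
        simp only [find, hb, hl, cond_false] at h
        exact ⟨by simp [toList, (ihr h).1], (ihr h).2⟩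

end Orbit

/-- Strictly increasing list of natural numbers. -/
def isInc : List Nat → Bool
  | [] => true
  | [_] => true
  | a :: b :: l => Nat.blt a b && isInc (b :: l)

theorem isInc_nodup : ∀ {l : List Nat}, isInc l = true → l.Nodup := by
  have key : ∀ {l : List Nat}, isInc l = true → l.Pairwise (· < ·) := by
    intro l
    induction l with
    | nil => simp
    | cons a l ih =>
      cases l with
      | nil => simp
      | cons b l =>
        intro h
        simp only [isInc, Bool.and_eq_true, Nat.blt, Nat.ble_eq] at h
        have hab : a < b := h.1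
        have hp := ih h.2
        refine List.pairwise_cons.2 ⟨?_, hp⟩
        intro c hc
        rcases List.mem_cons.1 hc with rfl | hc
        · exact hab
        · exact hab.trans ((List.pairwise_cons.1 hp).1 c hc)
  intro l h
  exact (key h).imp Nat.ne_of_lt

namespace Rep

variable {G : Type u} [Group G] {X : Type v} [MulAction G X] (R : Rep G X)

/-- Number of elements described by a chain. -/
def order : List (Level R.C) → Nat
  | [] => 1
  | L :: c => L.orb.toList.length * order c

/-- Generators of the first level. -/
def topGens : List (Level R.C) → List R.C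
  | [] => []
  | L :: _ => L.gens

/-- The group described by a chain. -/
def grp (c : List (Level R.C)) : Subgroup G :=
  Subgroup.closure (R.val '' {s | s ∈ R.topGens c})

/-- Sifting: `true` proves membership. -/
def sift : List (Level R.C) → R.C → Bool
  | [], h => R.beq h R.one
  | L :: c, h =>
    R.force h fun h =>
      match L.orb.lookup (R.act h L.base) with
      | some e => bif Nat.beq e.point L.base then sift c h else sift c (R.mul e.bwd h)
      | none => false

/-- `true` proves non-membership; `x` is a point moved by the residual of sifting. -/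
def siftFail : List (Level R.C) → R.C → Nat → Bool
  | [], h, x => R.ptOk x && !(Nat.beq (R.act h x) x)
  | L :: c, h, x =>
    R.force h fun h =>
      match L.orb.lookup (R.act h L.base) with
      | some e => siftFail c (R.mul e.bwd h) x
      | none => true

/-- Validity of one orbit entry. -/
def checkEntry (L : Level R.C) (e : Entry R.C) : Bool :=
  R.ok e.fwd && R.ok e.bwd && R.beq (R.mul e.bwd e.fwd) R.one
    && Nat.beq (R.act e.fwd L.base) e.point
    && (match L.orb.find e.point with
        | some e' => Nat.beq e'.depth e.depth
        | none => false)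
    && (bif Nat.beq e.depth 0 then R.beq e.fwd R.one
        else (match L.orb.find e.par, L.gens[e.gen]? with
              | some p, some s => Nat.blt p.depth e.depth && R.beq e.fwd (R.mul s p.fwd)
              | _, _ => false))

/-- All Schreier generators of an orbit entry sift through the lower levels. -/
def checkClosed (L : Level R.C) (rest : List (Level R.C)) (e : Entry R.C) : Bool :=
  L.gens.all fun s =>
    match L.orb.lookup (R.act s e.point) with
    | some e' => R.sift rest (R.mul e'.bwd (R.mul s e.fwd))
    | none => false

/-- Validity of one level over the lower levels. -/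
def checkLevel (L : Level R.C) (rest : List (Level R.C)) : Bool :=
  R.ptOk L.base && L.gens.all R.ok
    && (match L.orb.find L.base with
        | some e => R.beq e.fwd R.one
        | none => false)
    && isInc (L.orb.toList.map Entry.point)
    && L.orb.toList.all (R.checkEntry L)
    && L.orb.toList.all (R.checkClosed L rest)
    && (R.topGens rest).all (fun s => Nat.beq (R.act s L.base) L.base
        && L.gens.any (fun t => R.beq t s))

/-- Validity of a chain. -/
def checkChain : List (Level R.C) → Bool
  | [] => true
  | L :: c => checkChain c && R.checkLevel L c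

theorem sift_cons (L : Level R.C) (c : List (Level R.C)) (h : R.C) :
    R.sift (L :: c) h = true →
      R.sift c h = true ∨
        ∃ e, L.orb.find (R.act h L.base) = some e ∧ R.sift c (R.mul e.bwd h) = true := by
  intro hs
  cases he : L.orb.find (R.act h L.base) with
  | none => simp [sift, R.force_eq, Orbit.lookup_eq, he] at hs
  | some e =>
    simp only [sift, R.force_eq, Orbit.lookup_eq, he] at hs
    cases hb : Nat.beq e.point L.base with
    | true => exact Or.inl (by simpa [hb] using hs)
    | false => exact Or.inr ⟨e, rfl, by simpa [hb] using hs⟩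

theorem val_mem_grp {c : List (Level R.C)} {s : R.C} (hs : s ∈ R.topGens c) :
    R.val s ∈ R.grp c :=
  Subgroup.subset_closure ⟨s, hs, rfl⟩

theorem topGens_ok {c : List (Level R.C)} (hc : R.checkChain c = true) {s : R.C}
    (hs : s ∈ R.topGens c) : R.ok s = true := by
  cases c with
  | nil => simp [topGens] at hs
  | cons L c =>
    simp only [checkChain, checkLevel, Bool.and_eq_true, List.all_eq_true] at hc
    exact hc.2.1.1.1.1.1.2 s hs

/-- The facts that `checkLevel` certifies, in mathematical form. -/
structure LevelFacts (L : Level R.C) (rest : List (Level R.C)) : Prop where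
  ptOk_base : R.ptOk L.base = true
  gens_ok : ∀ s ∈ L.gens, R.ok s = true
  base_entry : ∃ e ∈ L.orb.toList, e.point = L.base ∧ R.val e.fwd = 1
  nodup : (L.orb.toList.map Entry.point).Nodup
  fwd_ok : ∀ e ∈ L.orb.toList, R.ok e.fwd = true
  bwd_ok : ∀ e ∈ L.orb.toList, R.ok e.bwd = true
  bwd_eq : ∀ e ∈ L.orb.toList, R.val e.bwd = (R.val e.fwd)⁻¹
  fwd_point : ∀ e ∈ L.orb.toList, R.act e.fwd L.base = e.point
  ptOk_point : ∀ e ∈ L.orb.toList, R.ptOk e.point = true
  find_point : ∀ e ∈ L.orb.toList, (L.orb.find e.point).isSome = true
  tree : ∀ e ∈ L.orb.toList, R.val e.fwd ∈ Subgroup.closure (R.val '' {s | s ∈ L.gens})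
  closed : ∀ e ∈ L.orb.toList, ∀ s ∈ L.gens, ∃ e' ∈ L.orb.toList,
    e'.point = R.act s e.point ∧ R.sift rest (R.mul e'.bwd (R.mul s e.fwd)) = true
  sub_fix : ∀ s ∈ R.topGens rest, R.act s L.base = L.base
  sub_le : R.grp rest ≤ R.grp (L :: rest)

theorem levelFacts_of_check {L : Level R.C} {rest : List (Level R.C)}
    (hrest : R.checkChain rest = true) (h : R.checkLevel L rest = true) :
    R.LevelFacts L rest := by
  simp only [checkLevel, Bool.and_eq_true, List.all_eq_true, List.any_eq_true] at h
  obtain ⟨⟨⟨⟨⟨⟨hb, hg⟩, hbase⟩, hinc⟩, hentry⟩, hclosed⟩, hsub⟩ := h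
  have hE : ∀ e ∈ L.orb.toList, R.ok e.fwd = true ∧ R.ok e.bwd = true ∧
      R.beq (R.mul e.bwd e.fwd) R.one = true ∧ R.act e.fwd L.base = e.point ∧
      (∃ e', L.orb.find e.point = some e' ∧ e'.depth = e.depth) ∧
      (e.depth = 0 ∧ R.beq e.fwd R.one = true ∨ ∃ p s, L.orb.find e.par = some p ∧
        L.gens[e.gen]? = some s ∧ p.depth < e.depth ∧
        R.beq e.fwd (R.mul s p.fwd) = true) := by
    intro e he
    have hh := hentry e he
    simp only [checkEntry, Bool.and_eq_true] at hh
    obtain ⟨⟨⟨⟨⟨h1, h2⟩, h3⟩, h4⟩, h5⟩, h6⟩ := hh
    refine ⟨h1, h2, h3, Nat.eq_of_beq_eq_true h4, ?_, ?_⟩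
    · cases hf : L.orb.find e.point with
      | none => simp [hf] at h5
      | some e' =>
        exact ⟨e', rfl, Nat.eq_of_beq_eq_true (by simpa [hf] using h5)⟩
    · cases hd : Nat.beq e.depth 0 with
      | true => exact Or.inl ⟨Nat.eq_of_beq_eq_true hd, by simpa [hd] using h6⟩
      | false =>
        simp only [hd, cond_false] at h6
        cases hp : L.orb.find e.par with
        | none => simp [hp] at h6
        | some p =>
          cases hs : L.gens[e.gen]? with
          | none => simp [hp, hs] at h6
          | some s =>
            simp only [hp, hs, Bool.and_eq_true, Nat.blt, Nat.ble_eq] at h6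
            exact Or.inr ⟨p, s, rfl, rfl, h6.1, h6.2⟩
  have hbwd : ∀ e ∈ L.orb.toList, R.val e.bwd = (R.val e.fwd)⁻¹ := by
    intro e he
    obtain ⟨h1, h2, h3, -⟩ := hE e he
    have := R.beq_sound (R.ok_mul h2 h1) R.ok_one h3
    rw [R.val_mul h2 h1, R.val_one] at this
    exact eq_inv_of_mul_eq_one_left this
  have hpt : ∀ e ∈ L.orb.toList, R.ptOk e.point = true := by
    intro e he
    obtain ⟨h1, -, -, h4, -⟩ := hE e he
    rw [← h4]; exact R.ptOk_act h1 hb
  have htree : ∀ n, ∀ e ∈ L.orb.toList, e.depth < n →
      R.val e.fwd ∈ Subgroup.closure (R.val '' {s | s ∈ L.gens}) := by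
    intro n
    induction n with
    | zero => intro e _ hn; omega
    | succ n ih =>
      intro e he hn
      obtain ⟨h1, -, -, -, -, h6⟩ := hE e he
      rcases h6 with ⟨-, h⟩ | ⟨p, s, hp, hs, hlt, h⟩
      · rw [R.beq_sound h1 R.ok_one h, R.val_one]; exact Subgroup.one_mem _
      · have hpm := (Orbit.find_some hp).1
        have hsm : s ∈ L.gens := List.mem_of_getElem? hs
        rw [R.beq_sound h1 (R.ok_mul (hg s hsm) (hE p hpm).1) h,
          R.val_mul (hg s hsm) (hE p hpm).1]
        exact Subgroup.mul_mem _ (Subgroup.subset_closure ⟨s, hsm, rfl⟩)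
          (ih p hpm (by omega))
  refine
    { ptOk_base := hb, gens_ok := hg, base_entry := ?_, nodup := isInc_nodup hinc,
      fwd_ok := fun e he => (hE e he).1, bwd_ok := fun e he => (hE e he).2.1,
      bwd_eq := hbwd, fwd_point := fun e he => (hE e he).2.2.2.1, ptOk_point := hpt,
      find_point := ?_, tree := fun e he => htree (e.depth + 1) e he (by omega),
      closed := ?_, sub_fix := fun s hs => Nat.eq_of_beq_eq_true (hsub s hs).1, sub_le := ?_ }
  · cases hf : L.orb.find L.base with
    | none => simp [hf] at hbase
    | some e =>
      simp only [hf] at hbase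
      obtain ⟨hm, hp⟩ := Orbit.find_some hf
      exact ⟨e, hm, hp, by rw [R.beq_sound (hE e hm).1 R.ok_one hbase, R.val_one]⟩
  · intro e he
    obtain ⟨e', he', -⟩ := (hE e he).2.2.2.2.1
    simp [he']
  · intro e he s hs
    have hh := hclosed e he
    simp only [checkClosed, List.all_eq_true] at hh
    have := hh s hs
    cases hf : L.orb.find (R.act s e.point) with
    | none => simp [Orbit.lookup_eq, hf] at this
    | some e' =>
      exact ⟨e', (Orbit.find_some hf).1, (Orbit.find_some hf).2,
        by simpa [Orbit.lookup_eq, hf] using this⟩
  · rw [grp, Subgroup.closure_le]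
    rintro _ ⟨s, hs, rfl⟩
    obtain ⟨t, ht, hts⟩ := (hsub s hs).2
    rw [← R.beq_sound (hg t ht) (R.topGens_ok hrest hs) hts]
    exact R.val_mem_grp (c := L :: rest) ht

theorem levelFacts {L : Level R.C} {rest : List (Level R.C)}
    (h : R.checkChain (L :: rest) = true) : R.LevelFacts L rest := by
  simp only [checkChain, Bool.and_eq_true] at h
  exact R.levelFacts_of_check h.1 h.2

theorem checkChain_tail {L : Level R.C} {rest : List (Level R.C)}
    (h : R.checkChain (L :: rest) = true) : R.checkChain rest = true := by
  simp only [checkChain, Bool.and_eq_true] at h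
  exact h.1

/-- A successful sift proves membership. -/
theorem mem_grp_of_sift : ∀ {c : List (Level R.C)}, R.checkChain c = true →
    ∀ {h : R.C}, R.ok h = true → R.sift c h = true → R.val h ∈ R.grp c := by
  intro c
  induction c with
  | nil =>
    intro _ h hok hs
    rw [R.beq_sound hok R.ok_one hs, R.val_one]
    exact Subgroup.one_mem _
  | cons L rest ih =>
    intro hc h hok hs
    have F := R.levelFacts hc
    rcases R.sift_cons L rest h hs with hs' | ⟨e, hf, hs'⟩
    · exact F.sub_le (ih (R.checkChain_tail hc) hok hs')
    obtain ⟨he, -⟩ := Orbit.find_some hf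
    have h1 := F.sub_le (ih (R.checkChain_tail hc) (R.ok_mul (F.bwd_ok e he) hok) hs')
    rw [R.val_mul (F.bwd_ok e he) hok, F.bwd_eq e he] at h1
    have h2 : R.val e.fwd ∈ R.grp (L :: rest) := F.tree e he
    have := Subgroup.mul_mem _ h2 h1
    rwa [mul_inv_cancel_left] at this

theorem fwd_smul_base {L : Level R.C} {rest : List (Level R.C)}
    (hc : R.checkChain (L :: rest) = true) {e : Entry R.C} (he : e ∈ L.orb.toList) :
    R.val e.fwd • R.pt L.base = R.pt e.point := by
  have F := R.levelFacts hc
  rw [R.pt_act (F.fwd_ok e he) F.ptOk_base, F.fwd_point e he]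

theorem fwd_mem_grp {L : Level R.C} {rest : List (Level R.C)}
    (hc : R.checkChain (L :: rest) = true) {e : Entry R.C} (he : e ∈ L.orb.toList) :
    R.val e.fwd ∈ R.grp (L :: rest) :=
  (R.levelFacts hc).tree e he

theorem grp_tail_le {L : Level R.C} {rest : List (Level R.C)}
    (hc : R.checkChain (L :: rest) = true) : R.grp rest ≤ R.grp (L :: rest) :=
  (R.levelFacts hc).sub_le

theorem fix_base {L : Level R.C} {rest : List (Level R.C)}
    (hc : R.checkChain (L :: rest) = true) {g : G} (hg : g ∈ R.grp rest) :
    g • R.pt L.base = R.pt L.base := by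
  have F := R.levelFacts hc
  have hle : R.grp rest ≤ MulAction.stabilizer G (R.pt L.base) := by
    rw [grp, Subgroup.closure_le]
    rintro _ ⟨s, hs, rfl⟩
    have := R.pt_act (R.topGens_ok (R.checkChain_tail hc) hs) F.ptOk_base
    rw [F.sub_fix s hs] at this
    exact this
  exact hle hg

theorem entry_eq {L : Level R.C} {rest : List (Level R.C)}
    (hc : R.checkChain (L :: rest) = true) {e e' : Entry R.C} (he : e ∈ L.orb.toList)
    (he' : e' ∈ L.orb.toList) (h : R.pt e.point = R.pt e'.point) : e = e' := by
  have F := R.levelFacts hc
  exact List.inj_on_of_nodup_map F.nodup he he'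
    (R.pt_inj (F.ptOk_point e he) (F.ptOk_point e' he') h)

theorem grp_nil : R.grp [] = ⊥ := by
  have : R.val '' {s | s ∈ R.topGens ([] : List (Level R.C))} = ∅ := by
    simp [topGens]
  rw [grp, this, Subgroup.closure_empty]

theorem finite_and_decomp : ∀ {c : List (Level R.C)}, R.checkChain c = true →
    Finite (R.grp c) ∧ ∀ L rest, c = L :: rest →
      ∀ g ∈ R.grp c, ∃ e ∈ L.orb.toList, ∃ k ∈ R.grp rest, g = R.val e.fwd * k := by
  intro c
  induction c with
  | nil =>
    intro _
    exact ⟨by rw [R.grp_nil]; infer_instance, fun L rest h => by simp at h⟩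
  | cons L rest ih =>
    intro hc
    have F := R.levelFacts hc
    have hfin : Finite (R.grp rest) := (ih (R.checkChain_tail hc)).1
    let T : Set G := {g | ∃ e ∈ L.orb.toList, ∃ k ∈ R.grp rest, g = R.val e.fwd * k}
    have hTfin : T.Finite := by
      have hk : (R.grp rest : Set G).Finite := Set.toFinite _
      refine ((L.orb.toList.finite_toSet.prod hk).image
        (fun p => R.val p.1.fwd * p.2)).subset ?_
      rintro g ⟨e, he, k, hk', rfl⟩
      exact ⟨(e, k), ⟨he, hk'⟩, rfl⟩
    have hT1 : (1 : G) ∈ T := by
      obtain ⟨e, he, -, hv⟩ := F.base_entry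
      exact ⟨e, he, 1, Subgroup.one_mem _, by simp [hv]⟩
    have hstep : ∀ s ∈ L.gens, ∀ g ∈ T, R.val s * g ∈ T := by
      rintro s hs g ⟨e, he, k, hk, rfl⟩
      obtain ⟨e', he', -, hsift⟩ := F.closed e he s hs
      have hok1 := R.ok_mul (F.gens_ok s hs) (F.fwd_ok e he)
      have hm := R.mem_grp_of_sift (R.checkChain_tail hc)
        (R.ok_mul (F.bwd_ok e' he') hok1) hsift
      rw [R.val_mul (F.bwd_ok e' he') hok1, R.val_mul (F.gens_ok s hs) (F.fwd_ok e he),
        F.bwd_eq e' he'] at hm
      refine ⟨e', he', ((R.val e'.fwd)⁻¹ * (R.val s * R.val e.fwd)) * k,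
        Subgroup.mul_mem _ hm hk, ?_⟩
      rw [← mul_assoc, ← mul_assoc (R.val e'.fwd), mul_inv_cancel_left]
    have hinv : ∀ s ∈ L.gens, ∀ g ∈ T, (R.val s)⁻¹ * g ∈ T := by
      intro s hs g hg
      have heq : (fun a => R.val s * a) '' T = T := by
        refine Set.eq_of_subset_of_ncard_le ?_ ?_ hTfin
        · rintro _ ⟨a, ha, rfl⟩; exact hstep s hs a ha
        · rw [Set.ncard_image_of_injective _ (mul_right_injective _)]
      rw [← heq] at hg
      obtain ⟨a, ha, rfl⟩ := hg
      simpa using ha
    have hall : ∀ g ∈ R.grp (L :: rest), g ∈ T := by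
      have : ∀ g ∈ R.grp (L :: rest), ∀ a ∈ T, g * a ∈ T ∧ g⁻¹ * a ∈ T := by
        intro g hg
        refine Subgroup.closure_induction ?_ ?_ ?_ ?_ hg
        · rintro _ ⟨s, hs, rfl⟩ a ha
          exact ⟨hstep s hs a ha, hinv s hs a ha⟩
        · intro a ha; simp [ha]
        · intro x y _ _ hx hy a ha
          refine ⟨?_, ?_⟩
          · rw [mul_assoc]; exact (hx _ (hy a ha).1).1
          · rw [mul_inv_rev, mul_assoc]; exact (hy _ (hx a ha).2).2
        · intro x _ hx a ha
          exact ⟨(hx a ha).2, by simpa using (hx a ha).1⟩
      intro g hg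
      simpa using (this g hg 1 hT1).1
    refine ⟨(hTfin.subset hall).to_subtype, ?_⟩
    rintro L' rest' h g hg
    simp only [List.cons.injEq] at h
    obtain ⟨rfl, rfl⟩ := h
    exact hall g hg

theorem finite_grp {c : List (Level R.C)} (hc : R.checkChain c = true) : Finite (R.grp c) :=
  (R.finite_and_decomp hc).1

theorem decomp {L : Level R.C} {rest : List (Level R.C)}
    (hc : R.checkChain (L :: rest) = true) {g : G} (hg : g ∈ R.grp (L :: rest)) :
    ∃ e ∈ L.orb.toList, ∃ k ∈ R.grp rest, g = R.val e.fwd * k :=
  (R.finite_and_decomp hc).2 L rest rfl g hg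

/-- The orbit of the base point is the stored orbit. -/
theorem smul_base_mem {L : Level R.C} {rest : List (Level R.C)}
    (hc : R.checkChain (L :: rest) = true) {g : G} (hg : g ∈ R.grp (L :: rest)) :
    ∃ e ∈ L.orb.toList, g • R.pt L.base = R.pt e.point := by
  obtain ⟨e, he, k, hk, rfl⟩ := R.decomp hc hg
  exact ⟨e, he, by rw [mul_smul, R.fix_base hc hk, R.fwd_smul_base hc he]⟩

/-- The next level generates the stabiliser of the base point. -/
theorem mem_grp_tail_iff {L : Level R.C} {rest : List (Level R.C)}
    (hc : R.checkChain (L :: rest) = true) {g : G} :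
    g ∈ R.grp rest ↔ g ∈ R.grp (L :: rest) ∧ g • R.pt L.base = R.pt L.base := by
  refine ⟨fun h => ⟨R.grp_tail_le hc h, R.fix_base hc h⟩, ?_⟩
  rintro ⟨hg, hfix⟩
  obtain ⟨e, he, k, hk, rfl⟩ := R.decomp hc hg
  rw [mul_smul, R.fix_base hc hk, R.fwd_smul_base hc he] at hfix
  obtain ⟨b, hb, hbp, hbv⟩ := (R.levelFacts hc).base_entry
  rw [← hbp] at hfix
  obtain rfl := R.entry_eq hc he hb hfix
  simpa [hbv] using hk

/-- The order of the group described by a checked chain. -/
theorem card_grp : ∀ {c : List (Level R.C)}, R.checkChain c = true →
    Nat.card (R.grp c) = R.order c := by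
  intro c
  induction c with
  | nil => intro _; rw [R.grp_nil, order]; exact Nat.card_unique
  | cons L rest ih =>
    intro hc
    let f : {e : Entry R.C // e ∈ L.orb.toList} × R.grp rest → R.grp (L :: rest) :=
      fun p => ⟨R.val p.1.1.fwd * p.2.1,
        Subgroup.mul_mem _ (R.fwd_mem_grp hc p.1.2) (R.grp_tail_le hc p.2.2)⟩
    have hf : Function.Bijective f := by
      constructor
      · rintro ⟨⟨e, he⟩, ⟨k, hk⟩⟩ ⟨⟨e', he'⟩, ⟨k', hk'⟩⟩ h
        simp only [f, Subtype.mk.injEq] at h
        have h2 := congrArg (fun g : G => g • R.pt L.base) h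
        simp only [mul_smul, R.fix_base hc hk, R.fix_base hc hk', R.fwd_smul_base hc he,
          R.fwd_smul_base hc he'] at h2
        obtain rfl := R.entry_eq hc he he' h2
        simp only [mul_right_inj] at h
        subst h; rfl
      · rintro ⟨g, hg⟩
        obtain ⟨e, he, k, hk, rfl⟩ := R.decomp hc hg
        exact ⟨(⟨e, he⟩, ⟨k, hk⟩), rfl⟩
    have hcard : Nat.card {e : Entry R.C // e ∈ L.orb.toList} = L.orb.toList.length := by
      have hn : L.orb.toList.Nodup := ((R.levelFacts hc).nodup).of_map _
      let e2 : Fin L.orb.toList.length → {e : Entry R.C // e ∈ L.orb.toList} :=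
        fun i => ⟨L.orb.toList.get i, List.get_mem _ _⟩
      have he2 : Function.Bijective e2 := by
        constructor
        · intro i j h
          exact List.nodup_iff_injective_get.1 hn (congrArg Subtype.val h)
        · rintro ⟨e, he⟩
          obtain ⟨i, hi⟩ := List.get_of_mem he
          exact ⟨i, Subtype.ext hi⟩
      rw [← Nat.card_eq_of_bijective e2 he2, Nat.card_eq_fintype_card, Fintype.card_fin]
    rw [← Nat.card_eq_of_bijective f hf, Nat.card_prod, hcard, ih (R.checkChain_tail hc), order]

/-- `siftFail` proves non-membership. -/
theorem notMem_grp_of_siftFail : ∀ {c : List (Level R.C)}, R.checkChain c = true →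
    ∀ {h : R.C} {x : Nat}, R.ok h = true → R.siftFail c h x = true → R.val h ∉ R.grp c := by
  intro c
  induction c with
  | nil =>
    intro _ h x hok hs hm
    simp only [siftFail, Bool.and_eq_true, Bool.not_eq_true'] at hs
    rw [R.grp_nil, Subgroup.mem_bot] at hm
    have h1 := R.pt_act hok hs.1
    rw [hm, one_smul] at h1
    have h2 := R.pt_inj hs.1 (R.ptOk_act hok hs.1) h1
    exact absurd hs.2 (by rw [← h2]; simp)
  | cons L rest ih =>
    intro hc h x hok hs hm
    have F := R.levelFacts hc
    obtain ⟨e₀, he₀, k, hk, hd⟩ := R.decomp hc hm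
    have hp : R.act h L.base = e₀.point := by
      refine R.pt_inj (R.ptOk_act hok F.ptOk_base) (F.ptOk_point e₀ he₀) ?_
      rw [← R.pt_act hok F.ptOk_base, hd, mul_smul, R.fix_base hc hk, R.fwd_smul_base hc he₀]
    have hsome := F.find_point e₀ he₀
    cases hf : L.orb.find e₀.point with
    | none => simp [hf] at hsome
    | some e =>
      obtain ⟨he, hep⟩ := Orbit.find_some hf
      obtain rfl := R.entry_eq hc he he₀ (by rw [hep])
      simp only [siftFail, R.force_eq, Orbit.lookup_eq, hp, hf] at hs
      refine ih (R.checkChain_tail hc) (R.ok_mul (F.bwd_ok e he) hok) hs ?_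
      rw [R.val_mul (F.bwd_ok e he) hok, F.bwd_eq e he, hd, inv_mul_cancel_left]
      exact hk

/-- Evaluates a straight line program (new elements are prepended to `acc`; indices refer to
positions in the current list) and applies `k` to the result. -/
def runSteps : List (Step R.C) → List R.C → (List R.C → Bool) → Bool
  | [], acc, k => k acc
  | Step.mul i j :: l, acc, k =>
    match acc[i]?, acc[j]? with
    | some a, some b => R.force (R.mul a b) fun c => runSteps l (c :: acc) k
    | _, _ => false
  | Step.inv i c :: l, acc, k =>
    match acc[i]? with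
    | some a => bif R.ok c && R.beq (R.mul c a) R.one then runSteps l (c :: acc) k else false
    | none => false

/-- The chain describes exactly the group generated by `gens`. -/
def checkClosure (gens : List R.C) (steps : List (Step R.C)) (c : List (Level R.C)) : Bool :=
  R.checkChain c && gens.all (fun s => R.ok s && R.sift c s)
    && R.runSteps steps gens fun els =>
      (R.topGens c).all (fun s => els.any (fun t => R.beq t s))

theorem runSteps_spec (K : Subgroup G) {k : List R.C → Bool} : ∀ {l : List (Step R.C)}
    {acc : List R.C}, (∀ a ∈ acc, R.ok a = true ∧ R.val a ∈ K) → R.runSteps l acc k = true →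
      ∃ els, (∀ a ∈ els, R.ok a = true ∧ R.val a ∈ K) ∧ k els = true := by
  intro l
  induction l with
  | nil => intro acc hacc h; exact ⟨acc, hacc, by simpa [runSteps] using h⟩
  | cons st l ih =>
    intro acc hacc h
    cases st with
    | mul i j =>
      cases hi : acc[i]? with
      | none => simp [runSteps, hi] at h
      | some a =>
        cases hj : acc[j]? with
        | none => simp [runSteps, hi, hj] at h
        | some b =>
          simp only [runSteps, hi, hj, R.force_eq] at h
          refine ih ?_ h
          have ha := hacc a (List.mem_of_getElem? hi)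
          have hb := hacc b (List.mem_of_getElem? hj)
          refine List.forall_mem_cons.2 ⟨⟨R.ok_mul ha.1 hb.1, ?_⟩, hacc⟩
          rw [R.val_mul ha.1 hb.1]
          exact Subgroup.mul_mem _ ha.2 hb.2
    | inv i c =>
      cases hi : acc[i]? with
      | none => simp [runSteps, hi] at h
      | some a =>
        cases hcnd : (R.ok c && R.beq (R.mul c a) R.one) with
        | false => simp [runSteps, hi, hcnd] at h
        | true =>
          simp only [runSteps, hi, hcnd, cond_true] at h
          refine ih ?_ h
          simp only [Bool.and_eq_true] at hcnd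
          have ha := hacc a (List.mem_of_getElem? hi)
          have := R.beq_sound (R.ok_mul hcnd.1 ha.1) R.ok_one hcnd.2
          rw [R.val_mul hcnd.1 ha.1, R.val_one] at this
          refine List.forall_mem_cons.2 ⟨⟨hcnd.1, ?_⟩, hacc⟩
          rw [eq_inv_of_mul_eq_one_left this]
          exact Subgroup.inv_mem _ ha.2

/-- A checked certificate identifies the group generated by `gens`. -/
theorem closure_eq_grp {gens : List R.C} {steps : List (Step R.C)} {c : List (Level R.C)}
    (h : R.checkClosure gens steps c = true) :
    Subgroup.closure (R.val '' {s | s ∈ gens}) = R.grp c := by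
  simp only [checkClosure, Bool.and_eq_true, List.all_eq_true] at h
  obtain ⟨⟨hc, hgens⟩, hst⟩ := h
  refine le_antisymm ?_ ?_
  · rw [Subgroup.closure_le]
    rintro _ ⟨s, hs, rfl⟩
    exact R.mem_grp_of_sift hc (hgens s hs).1 (hgens s hs).2
  · obtain ⟨els, hels, hall⟩ := R.runSteps_spec (Subgroup.closure (R.val '' {s | s ∈ gens}))
      (fun a ha => ⟨(hgens a ha).1, Subgroup.subset_closure ⟨a, ha, rfl⟩⟩) hst
    simp only [List.all_eq_true, List.any_eq_true] at hall
    rw [grp, Subgroup.closure_le]
    rintro _ ⟨s, hs, rfl⟩
    obtain ⟨t, ht, hts⟩ := hall s hs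
    rw [← R.beq_sound (hels t ht).1 (R.topGens_ok hc hs) hts]
    exact (hels t ht).2

theorem checkChain_of_checkClosure {gens : List R.C} {steps : List (Step R.C)}
    {c : List (Level R.C)} (h : R.checkClosure gens steps c = true) : R.checkChain c = true := by
  simp only [checkClosure, Bool.and_eq_true] at h
  exact h.1.1

/-- The order of the group generated by `gens`. -/
theorem card_closure {gens : List R.C} {steps : List (Step R.C)} {c : List (Level R.C)}
    (h : R.checkClosure gens steps c = true) :
    Nat.card (Subgroup.closure (R.val '' {s | s ∈ gens})) = R.order c := by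
  rw [R.closure_eq_grp h, R.card_grp (R.checkChain_of_checkClosure h)]

end Rep

end Cfsg.Agent.Lib.Computation
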